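import Groth.Agent.Lib.GrpHomog20.Geom
import Groth.Agent.Lib.GeomIrr18.Scheme
import Groth.Agent.Lib.H12.Specialization
import Mathlib.AlgebraicGeometry.Morphisms.Integral

/-!
# Irreducible components of homogeneous spaces over a field
-/

universe u

open CategoryTheory Limits MonoidalCategory CartesianMonoidalCategory AlgebraicGeometry Topology
open scoped MonObj GrpObj

set_option linter.style.haveILetI false
set_option backward.isDefEq.respectTransparency false

namespace Groth.Agent.GrpHomog20

variable {k : Type u} [Field k]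

local notation3 "Pt" => (IsLocalRing.closedPoint k : Spec (CommRingCat.of k))

/-- The irreducible components are the closures of the maximal points. -/
theorem closure_mem_irreducibleComponents {X : Scheme.{u}} {M : X} (hM : FlatH4.IsMaxPt M) :
    closure ({M} : Set X) ∈ irreducibleComponents X := by
  refine ⟨isIrreducible_singleton.closure, fun W hW hsub => ?_⟩
  obtain ⟨w, hw⟩ := QuasiSober.sober hW.closure isClosed_closure
  have h1 : w ⤳ M := hw.specializes (subset_closure (hsub (subset_closure rfl)))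
  intro z hz
  rw [← specializes_iff_mem_closure, ← hM w h1]
  exact hw.specializes (subset_closure hz)

theorem exists_isMaxPt_of_mem_irreducibleComponents {X : Scheme.{u}} {C : Set X} (hC : C ∈ irreducibleComponents X) :
    ∃ M, FlatH4.IsMaxPt M ∧ closure ({M} : Set X) = C := by
  obtain ⟨M, hM⟩ := QuasiSober.sober hC.1 (isClosed_of_mem_irreducibleComponents C hC)
  refine ⟨M, fun y hy => ?_, hM.def⟩
  have h : closure ({y} : Set X) ⊆ C := hC.2 isIrreducible_singleton.closure (by
    rw [← hM.def]; exact closure_minimal (Set.singleton_subset_iff.2 hy.mem_closure) isClosed_closure)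
  exact ((hM.specializes (h (subset_closure rfl))).antisymm hy).eq.symm

variable {G X : Over (Spec (CommRingCat.of k))} [GrpObj G]

/-- A geometric point over a given point. -/
theorem exists_geom_pt (Z : Over (Spec (CommRingCat.of k))) (x : Z.left) :
    ∃ (K : Type u) (_ : Field K) (_ : IsAlgClosed K) (y : Spec (CommRingCat.of K) ⟶ Spec (CommRingCat.of k))
      (p : Over.mk y ⟶ Z), p.left (IsLocalRing.closedPoint K : Spec (CommRingCat.of K)) = x := by
  let K := AlgebraicClosure (Z.left.residueField x)
  let i : Spec (CommRingCat.of K) ⟶ Z.left :=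
    Spec.map (CommRingCat.ofHom (algebraMap (Z.left.residueField x) K)) ≫ Z.left.fromSpecResidueField x
  refine ⟨K, inferInstance, inferInstance, i ≫ Z.hom, Over.homMk i rfl, ?_⟩
  show (Spec.map (CommRingCat.ofHom (algebraMap (Z.left.residueField x) K)) ≫ Z.left.fromSpecResidueField x) _ = x
  rw [Scheme.Hom.comp_apply]
  exact Scheme.fromSpecResidueField_apply x _

omit [GrpObj G] in
theorem flat_snd {K : Type u} [Field K] (y : Spec (CommRingCat.of K) ⟶ Spec (CommRingCat.of k))
    (Z : Over (Spec (CommRingCat.of k))) : Flat (snd (Over.mk y) Z).left := by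
  haveI : Subsingleton ↥(Spec (CommRingCat.of k)) := inferInstanceAs (Subsingleton (PrimeSpectrum k))
  obtain ⟨ψ, hψ⟩ : ∃ ψ : CommRingCat.of k ⟶ CommRingCat.of K, Spec.map ψ = y := ⟨Spec.preimage y, Spec.map_preimage _⟩
  haveI : Flat y := hψ ▸ (inferInstance : Flat (Spec.map ψ))
  haveI : Flat (Over.mk y).hom := ‹Flat y›
  exact MorphismProperty.pullback_snd (P := @Flat) (Over.mk y).hom Z.hom ‹Flat (Over.mk y).hom›

/-- A point upstairs over a maximal generalization. -/
theorem exists_max_over {K : Type u} [Field K] {y : Spec (CommRingCat.of K) ⟶ Spec (CommRingCat.of k)}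
    {Z : Over (Spec (CommRingCat.of k))} {M : Z.left} (hM : FlatH4.IsMaxPt M) (q : (Over.mk y ⊗ Z).left)
    (h : M ⤳ (snd (Over.mk y) Z).left q) :
    ∃ R, FlatH4.IsMaxPt R ∧ R ⤳ q ∧ (snd (Over.mk y) Z).left R = M := by
  haveI := flat_snd y Z
  obtain ⟨R, hRq, hRM⟩ := Flat.generalizingMap (snd (Over.mk y) Z).left h
  obtain ⟨R', hR', hR'R⟩ := FlatH4.exists_isMaxPt_specializes R
  exact ⟨R', hR', hR'R.trans hRq, hM _ (hRM ▸ hR'R.map (snd (Over.mk y) Z).left.continuous)⟩

/-- The maximal generalization of a point of a homogeneous space is unique. -/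
theorem eq_of_isMaxPt (a : AlgGrp.Action G X) (hΦ : Surjective (lift a.act (snd G X)).left)
    {M M' x : X.left} (hM : FlatH4.IsMaxPt M) (hM' : FlatH4.IsMaxPt M') (h : M ⤳ x) (h' : M' ⤳ x) : M = M' := by
  obtain ⟨K, _, _, y, p, hp⟩ := exists_geom_pt X x
  have hq : (snd (Over.mk y) X).left ((lift (𝟙 (Over.mk y)) p).left (IsLocalRing.closedPoint K : Spec (CommRingCat.of K))) = x := by
    rw [← hap, lift_snd]; exact hp
  obtain ⟨R, hR, hRq, rfl⟩ := exists_max_over hM _ (hq.symm ▸ h)
  obtain ⟨R', hR', hR'q, rfl⟩ := exists_max_over hM' _ (hq.symm ▸ h')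
  rw [eq_of_isMaxPt_rational a hΦ p hR hR' hRq hR'q]

/-- Every point lies on exactly one irreducible component. -/
theorem existsUnique_component (a : AlgGrp.Action G X) (hΦ : Surjective (lift a.act (snd G X)).left) (x : X.left) :
    ∃! C, C ∈ irreducibleComponents ↥X.left ∧ x ∈ C := by
  obtain ⟨M, hM, hMx⟩ := FlatH4.exists_isMaxPt_specializes x
  refine ⟨closure {M}, ⟨closure_mem_irreducibleComponents hM, hMx.mem_closure⟩, fun C ⟨hC, hxC⟩ => ?_⟩
  obtain ⟨M', hM', rfl⟩ := exists_isMaxPt_of_mem_irreducibleComponents hC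
  rw [eq_of_isMaxPt a hΦ hM hM' hMx (specializes_iff_mem_closure.2 hxC)]

/-- The component of a rational point of a homogeneous space is geometrically irreducible. -/
theorem geometricallyIrreducible_component (a : AlgGrp.Action G X) (hΦ : Surjective (lift a.act (snd G X)).left)
    (x : 𝟙_ (Over (Spec (CommRingCat.of k))) ⟶ X) {M : X.left} (hM : FlatH4.IsMaxPt M) (hMx : M ⤳ x.left Pt)
    {Z : Scheme.{u}} (i : Z ⟶ X.left) [IsClosedImmersion i] (hi : Set.range i = closure ({M} : Set X.left)) :
    GeometricallyIrreducible (i ≫ X.hom) := by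
  let Ω := AlgebraicClosure k
  let y : Spec (CommRingCat.of Ω) ⟶ Spec (CommRingCat.of k) := Spec.map (CommRingCat.ofHom (algebraMap k Ω))
  let T : Over (Spec (CommRingCat.of k)) := Over.mk y
  let pt : T.left := (IsLocalRing.closedPoint Ω : Spec (CommRingCat.of Ω))
  haveI : IsIntegralHom y := (IsIntegralHom.SpecMap_iff).2 (Algebra.IsIntegral.isIntegral (R := k) (A := Ω))
  haveI : IsIntegralHom T.hom := ‹IsIntegralHom y›
  haveI : IsIntegralHom (snd T X).left := MorphismProperty.pullback_snd (P := @IsIntegralHom) T.hom X.hom ‹IsIntegralHom T.hom›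
  haveI := flat_snd y X
  haveI : Subsingleton ↥(Spec (CommRingCat.of k)) := inferInstanceAs (Subsingleton (PrimeSpectrum k))
  haveI : Subsingleton T.left := inferInstanceAs (Subsingleton (PrimeSpectrum Ω))
  let aΩ : (T ⊗ X).left := (lift (𝟙 T) (toUnit T ≫ x)).left pt
  have haΩ : (snd T X).left aΩ = x.left Pt := by
    rw [← hap, lift_snd, hap]
    congr 1
    exact @Subsingleton.elim ↥(Spec (CommRingCat.of k)) _ _ _
  -- every point over the component specializes from the same point
  obtain ⟨R, hR, hRa, hRM⟩ := exists_max_over hM aΩ (haΩ.symm ▸ hMx)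
  have hone : ∀ q : (T ⊗ X).left, M ⤳ (snd T X).left q → R ⤳ q := by
    intro q hq
    obtain ⟨R', hR', hR'q, hR'M⟩ := exists_max_over hM q hq
    have hcl : (snd T X).left '' closure {R'} ⊇ closure {M} := by
      refine closure_minimal (Set.singleton_subset_iff.2 ⟨R', subset_closure rfl, hR'M⟩) ?_
      exact (snd T X).left.isClosedMap _ isClosed_closure
    obtain ⟨b, hb, hbx⟩ := hcl hMx.mem_closure
    have hba : b = aΩ := by
      have hfib : ∀ b : (T ⊗ X).left, (snd T X).left b = x.left Pt → b = aΩ := fun b hb => by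
        obtain ⟨z, hz, -⟩ := Scheme.exists_preimage_of_isPullback
          ((AbRigid.isPullback_whiskerLeft x T).map (Over.forget (Spec (CommRingCat.of k)))).flip b Pt hb
        rw [← hz]
        haveI : Subsingleton (T ⊗ 𝟙_ (Over (Spec (CommRingCat.of k)))).left := by
          haveI : IsIso (fst T (𝟙_ (Over (Spec (CommRingCat.of k))))).left :=
            inferInstanceAs (IsIso ((Over.forget (Spec (CommRingCat.of k))).mapIso (ρ_ T)).hom)
          exact (fst T (𝟙_ (Over (Spec (CommRingCat.of k))))).left.homeomorph.injective.subsingleton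
        show (T ◁ x).left z = (lift (𝟙 T) (toUnit T ≫ x)).left pt
        rw [show lift (𝟙 T) (toUnit T ≫ x) = lift (𝟙 T) (toUnit T) ≫ (T ◁ x) by
          apply CartesianMonoidalCategory.hom_ext <;> simp, hap]
        congr 1
        exact Subsingleton.elim _ _
      exact hfib b hbx
    subst hba
    rw [eq_of_isMaxPt_rational a hΦ (toUnit T ≫ x) hR hR' hRa (specializes_iff_mem_closure.2 hb)]
    exact hR'q
  let j : pullback (i ≫ X.hom) y ⟶ (T ⊗ X).left :=
    pullback.lift (pullback.snd (i ≫ X.hom) y) (pullback.fst (i ≫ X.hom) y ≫ i)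
      (by rw [Category.assoc, pullback.condition]; rfl)
  have sq : IsPullback j (pullback.fst (i ≫ X.hom) y) (snd T X).left i :=
    IsPullback.of_right (h₁₁ := j) (h₁₂ := (fst T X).left) (v₁₁ := pullback.fst (i ≫ X.hom) y)
      (h₂₁ := i) (h₂₂ := X.hom) (v₁₃ := T.hom)
      (by
        rw [show j ≫ (fst T X).left = pullback.snd (i ≫ X.hom) y from pullback.lift_fst _ _ _]
        exact (IsPullback.of_hasPullback (i ≫ X.hom) y).flip)
      (pullback.lift_snd _ _ _) (IsPullback.of_hasPullback T.hom X.hom)
  haveI : IsClosedImmersion j := MorphismProperty.of_isPullback sq.flip ‹IsClosedImmersion i›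
  obtain ⟨b, hbM⟩ : M ∈ Set.range i := hi.ge (subset_closure rfl)
  obtain ⟨q, hqR, -⟩ := Scheme.exists_preimage_of_isPullback sq R b (hRM.trans hbM.symm)
  haveI : IrreducibleSpace ↥(pullback (i ≫ X.hom) y) := by
    refine (irreducibleSpace_def _).2 (IsGenericPoint.isIrreducible (x := q) ?_)
    refine Set.eq_univ_of_forall fun w => ?_
    rw [← specializes_iff_mem_closure, ← j.isEmbedding.isInducing.specializes_iff, hqR]
    refine hone _ (specializes_iff_mem_closure.2 ?_)
    rw [← hi, ← Scheme.Hom.comp_apply, sq.w]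
    exact ⟨_, rfl⟩
  exact GeomIrr.geometricallyIrreducible_of_bc (i ≫ X.hom) Ω

end Groth.Agent.GrpHomog20
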