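import Groth.Agent.Lib.GrpHomog20.Components

/-!
# The component of the unit: compactness and orbits
-/

universe u

open CategoryTheory Limits MonoidalCategory CartesianMonoidalCategory AlgebraicGeometry Topology
open scoped MonObj GrpObj

set_option linter.style.haveILetI false
set_option backward.isDefEq.respectTransparency false

namespace Groth.Agent.GrpHomog20

variable {k : Type u} [Field k] {G X : Over (Spec (CommRingCat.of k))} [GrpObj G]

/-- The base change of a component of a rational point is irreducible. -/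
theorem isIrreducible_preimage (a : AlgGrp.Action G X) (hΦ : Surjective (lift a.act (snd G X)).left)
    (x : 𝟙_ (Over (Spec (CommRingCat.of k))) ⟶ X) {M : X.left} (hM : FlatH4.IsMaxPt M)
    (hMx : M ⤳ x.left (IsLocalRing.closedPoint k : Spec (CommRingCat.of k))) (K : Type u) [Field K] [Algebra k K] :
    IsIrreducible (pullback.fst X.hom (Spec.map (CommRingCat.ofHom (algebraMap k K))) ⁻¹' closure {M}) := by
  obtain ⟨Z, i, hiC, hiI, hi⟩ := GrpField.exists_closedImmersion_range (isClosed_closure (s := ({M} : Set X.left)))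
    isIrreducible_singleton.closure
  haveI := hiC
  haveI := geometricallyIrreducible_component a hΦ x hM hMx i hi
  let y : Spec (CommRingCat.of K) ⟶ Spec (CommRingCat.of k) := Spec.map (CommRingCat.ofHom (algebraMap k K))
  haveI : IrreducibleSpace ↥(pullback (i ≫ X.hom) y) :=
    GeometricallyIrreducible.geometrically_irreducibleSpace (f := i ≫ X.hom) _ _ _ (IsPullback.of_hasPullback (i ≫ X.hom) y)
  let c : pullback (i ≫ X.hom) y ⟶ pullback X.hom y :=
    pullback.map (i ≫ X.hom) y X.hom y i (𝟙 _) (𝟙 _) (by simp) (by simp)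
  have hc : Set.range c = pullback.fst X.hom y ⁻¹' closure {M} := by
    refine (Scheme.Pullback.range_map _ _ _ _ _ _ (𝟙 _) _ _).trans ?_
    rw [hi]
    exact Set.inter_eq_left.2 fun z _ => ⟨_, rfl⟩
  rw [← hc, ← Set.image_univ]
  exact (IrreducibleSpace.isIrreducible_univ _).image _ c.continuous.continuousOn

variable {M₀ : G.left} (hM₀ : FlatH4.IsMaxPt M₀)
  (hM₀e : M₀ ⤳ η[G].left (IsLocalRing.closedPoint k : Spec (CommRingCat.of k)))

include hM₀ hM₀e in
/-- A point of the component of the unit is a product of two points of any neighbourhood of its generic point. -/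
theorem exists_mul_eq {g : G.left} (hg : M₀ ⤳ g) :
    ∃ z : (G ⊗ G).left, μ[G].left z = g ∧ (fst G G).left z = M₀ ∧ (snd G G).left z = M₀ := by
  obtain ⟨K, _, _, y, p, hp⟩ := exists_geom_pt G g
  let T : Over (Spec (CommRingCat.of k)) := Over.mk y
  let pt : T.left := (IsLocalRing.closedPoint K : Spec (CommRingCat.of K))
  haveI : Subsingleton T.left := inferInstanceAs (Subsingleton (PrimeSpectrum K))
  haveI := flat_snd y G
  obtain ⟨η₀, hη₀, hη₀M, hη₀e, -⟩ := exists_generic hM₀ hM₀e y
  let φ : T ⊗ G ⟶ T ⊗ G := lift (fst T G) ((fst T G ≫ p) * (snd T G)⁻¹)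
  let ψ : T ⊗ G ⟶ T ⊗ G := lift (fst T G) ((snd T G)⁻¹ * (fst T G ≫ p))
  have hφψ : φ ≫ ψ = 𝟙 _ := by
    apply CartesianMonoidalCategory.hom_ext <;> simp [φ, ψ, MonObj.comp_mul, GrpObj.comp_inv, mul_assoc]
  have hψφ : ψ ≫ φ = 𝟙 _ := by
    apply CartesianMonoidalCategory.hom_ext <;> simp [φ, ψ, MonObj.comp_mul, GrpObj.comp_inv, mul_assoc]
  refine ⟨(lift ((fst T G ≫ p) * (snd T G)⁻¹) (snd T G)).left η₀, ?_, ?_, ?_⟩
  · rw [← hap, ← Hom.mul_def, inv_mul_cancel_right, hap, ← hp]
    congr 1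
    exact Subsingleton.elim (α := T.left) _ _
  · rw [← hap, lift_fst]
    have hm := (isMaxPt_map_iso φ ψ hφψ hψφ hη₀).map_of_flat (snd T G).left
    rw [← hap, lift_snd] at hm
    refine eq_of_isMaxPt (OrbitTop19.mulAction G) (surjective_mul G) hm hM₀ ?_ hg
    have h2 := hη₀e.map ((fst T G ≫ p) * (snd T G)⁻¹).left.continuous
    rwa [← hap, show lift (𝟙 T) (1 : T ⟶ G) ≫ ((fst T G ≫ p) * (snd T G)⁻¹) = p by
      simp [MonObj.comp_mul, GrpObj.comp_inv], hp] at h2
  · rw [← hap, lift_snd, hη₀M]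

include hM₀ hM₀e in
/-- The component of the unit is quasi-compact. -/
theorem isCompact_component : IsCompact (closure ({M₀} : Set G.left)) := by
  obtain ⟨U, hU, hMU, -⟩ := exists_isAffineOpen_mem_and_subset (X := G.left) (x := M₀) (U := ⊤) trivial
  haveI : CompactSpace U.toScheme := isCompact_iff_compactSpace.1 hU.isCompact
  haveI : IsAffine U.toScheme := hU
  haveI : CompactSpace ↥(pullback (U.ι ≫ G.hom) (U.ι ≫ G.hom)) := by
    haveI : QuasiCompact (U.ι ≫ G.hom) := quasiCompact_of_compactSpace _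
    exact QuasiCompact.compactSpace_of_compactSpace (pullback.fst (U.ι ≫ G.hom) (U.ι ≫ G.hom))
  let i : pullback (U.ι ≫ G.hom) (U.ι ≫ G.hom) ⟶ (G ⊗ G).left :=
    pullback.map _ _ G.hom G.hom U.ι U.ι (𝟙 _) (Category.comp_id _) (Category.comp_id _)
  refine ((isCompact_range i.continuous).image μ[G].left.continuous).of_isClosed_subset isClosed_closure fun g hg => ?_
  obtain ⟨z, hz, hz1, hz2⟩ := exists_mul_eq hM₀ hM₀e (specializes_iff_mem_closure.2 hg)
  refine ⟨z, ?_, hz⟩
  refine ((Scheme.Pullback.range_map _ _ _ _ U.ι U.ι (𝟙 _) (Category.comp_id _) (Category.comp_id _)).trans ?_).ge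
    (show z ∈ (fst G G).left ⁻¹' (U : Set G.left) ∩ (snd G G).left ⁻¹' (U : Set G.left) from ⟨by show _ ∈ (U : Set G.left); rw [hz1]; exact hMU, by show _ ∈ (U : Set G.left); rw [hz2]; exact hMU⟩)
  rw [Scheme.Opens.range_ι]
  rfl

include hM₀ hM₀e in
/-- An irreducible homogeneous space is quasi-compact. -/
theorem compactSpace_of_irreducible (a : AlgGrp.Action G X) (hΦ : Surjective (lift a.act (snd G X)).left)
    [IrreducibleSpace X.left] : CompactSpace X.left := by
  obtain ⟨U, hU, hMU, -⟩ := exists_isAffineOpen_mem_and_subset (X := X.left) (x := genericPoint X.left) (U := ⊤) trivial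
  obtain ⟨Z, i, hiC, -, hi⟩ := GrpField.exists_closedImmersion_range (isClosed_closure (s := ({M₀} : Set G.left)))
    isIrreducible_singleton.closure
  haveI := hiC
  haveI : CompactSpace Z := ⟨by
    rw [i.isEmbedding.isCompact_iff, Set.image_univ, hi]
    exact isCompact_component hM₀ hM₀e⟩
  haveI : CompactSpace U.toScheme := isCompact_iff_compactSpace.1 hU.isCompact
  haveI : QuasiCompact (U.ι ≫ X.hom) := quasiCompact_of_compactSpace _
  haveI : CompactSpace ↥(pullback (i ≫ G.hom) (U.ι ≫ X.hom)) :=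
    QuasiCompact.compactSpace_of_compactSpace (pullback.fst (i ≫ G.hom) (U.ι ≫ X.hom))
  let c : pullback (i ≫ G.hom) (U.ι ≫ X.hom) ⟶ (G ⊗ X).left :=
    pullback.map _ _ G.hom X.hom i U.ι (𝟙 _) (Category.comp_id _) (Category.comp_id _)
  constructor
  convert (isCompact_range c.continuous).image a.act.left.continuous
  refine (Set.eq_univ_of_forall fun x => ?_).symm
  obtain ⟨M, hM, hMx⟩ := FlatH4.exists_isMaxPt_specializes x
  have hMg : M = genericPoint X.left := (hM _ (genericPoint_specializes M)).symm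
  obtain ⟨z, ⟨hz1, hz2⟩, hz⟩ := (mem_translates_iff hM₀ hM₀e a hΦ U hM hMx).2 (hMg ▸ hMU)
  refine ⟨z, ((Scheme.Pullback.range_map _ _ _ _ i U.ι (𝟙 _) (Category.comp_id _) (Category.comp_id _)).trans ?_).ge
    (show z ∈ (fst G X).left ⁻¹' closure {M₀} ∩ (snd G X).left ⁻¹' (U : Set X.left) from ⟨hz1, hz2⟩), hz⟩
  rw [Scheme.Opens.range_ι, hi]
  rfl

include hM₀ hM₀e in
/-- The component of a rational point is the orbit of the component of the unit. -/
theorem exists_orbitMap_eq (a : AlgGrp.Action G X) (hΦ : Surjective (lift a.act (snd G X)).left)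
    (x : 𝟙_ (Over (Spec (CommRingCat.of k))) ⟶ X) {M z : X.left} (hM : FlatH4.IsMaxPt M)
    (hMx : M ⤳ x.left (IsLocalRing.closedPoint k : Spec (CommRingCat.of k))) (hMz : M ⤳ z) :
    ∃ g, M₀ ⤳ g ∧ (a.orbitMap x).left g = z := by
  obtain ⟨K, _, _, y, p, hp⟩ := exists_geom_pt X z
  let T : Over (Spec (CommRingCat.of k)) := Over.mk y
  haveI : Subsingleton T.left := inferInstanceAs (Subsingleton (PrimeSpectrum K))
  haveI : Subsingleton ↥(Spec (CommRingCat.of k)) := inferInstanceAs (Subsingleton (PrimeSpectrum k))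
  haveI := flat_snd y X
  obtain ⟨η₀, hη₀, hη₀M, hη₀e, hgen⟩ := exists_generic hM₀ hM₀e y
  let q : T ⟶ X := toUnit T ≫ x
  -- both orbit maps send the generic point to the generic point of the component
  obtain ⟨Z, i, hiC, hiI, hi⟩ := GrpField.exists_closedImmersion_range (isClosed_closure (s := ({M} : Set X.left)))
    isIrreducible_singleton.closure
  haveI := hiC
  haveI := geometricallyIrreducible_component a hΦ x hM hMx i hi
  obtain ⟨ψ, hψ⟩ : ∃ ψ : CommRingCat.of k ⟶ CommRingCat.of K, Spec.map ψ = y := ⟨Spec.preimage y, Spec.map_preimage _⟩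
  haveI : IrreducibleSpace ↥(pullback (i ≫ X.hom) y) :=
    GeometricallyIrreducible.geometrically_irreducibleSpace (f := i ≫ X.hom) _ _ _
      (show IsPullback (pullback.fst (i ≫ X.hom) y) (pullback.snd (i ≫ X.hom) y) (i ≫ X.hom) (Spec.map ψ) from
        hψ ▸ IsPullback.of_hasPullback (i ≫ X.hom) y)
  let j : pullback (i ≫ X.hom) y ⟶ (T ⊗ X).left :=
    pullback.lift (pullback.snd (i ≫ X.hom) y) (pullback.fst (i ≫ X.hom) y ≫ i)
      (by rw [Category.assoc, pullback.condition]; rfl)
  have sq : IsPullback j (pullback.fst (i ≫ X.hom) y) (snd T X).left i :=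
    IsPullback.of_right (h₁₁ := j) (h₁₂ := (fst T X).left) (v₁₁ := pullback.fst (i ≫ X.hom) y)
      (h₂₁ := i) (h₂₂ := X.hom) (v₁₃ := T.hom)
      (by
        rw [show j ≫ (fst T X).left = pullback.snd (i ≫ X.hom) y from pullback.lift_fst _ _ _]
        exact (IsPullback.of_hasPullback (i ≫ X.hom) y).flip)
      (pullback.lift_snd _ _ _) (IsPullback.of_hasPullback T.hom X.hom)
  obtain ⟨ξ, hξ⟩ := QuasiSober.sober (IrreducibleSpace.isIrreducible_univ ↥(pullback (i ≫ X.hom) y)) isClosed_univ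
  have key : ∀ R : (T ⊗ X).left, FlatH4.IsMaxPt R → (snd T X).left R = M → R = j ξ := fun R hR hRM => by
    obtain ⟨b, hb⟩ : (snd T X).left R ∈ Set.range i := hi.ge (hRM ▸ subset_closure rfl)
    obtain ⟨r, rfl, -⟩ := Scheme.exists_preimage_of_isPullback sq R b hb.symm
    exact (hR _ ((hξ.specializes (Set.mem_univ r)).map j.continuous)).symm
  have horb : ∀ (p : T ⟶ X) (x' : X.left), p.left (IsLocalRing.closedPoint K : Spec (CommRingCat.of K)) = x' → M ⤳ x' →
      (orb a p).left η₀ = j ξ := by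
    intro p x' hp hMx'
    have hm := isMaxPt_orbit a hΦ p hη₀ hη₀e
    refine key _ hm (eq_of_isMaxPt a hΦ (hm.map_of_flat (snd T X).left) hM ?_ hMx')
    have h2 := (hη₀e.map (orb a p).left.continuous).map (snd T X).left.continuous
    rw [← hap (lift (𝟙 T) (1 : T ⟶ G)) (orb a p), ← hap (lift (𝟙 T) (1 : T ⟶ G) ≫ orb a p)] at h2
    rwa [show (lift (𝟙 T) (1 : T ⟶ G) ≫ orb a p) ≫ snd T X = p by
      simp only [orb, Category.assoc, lift_snd]
      rw [comp_lift_assoc, lift_snd, lift_fst_assoc, Category.id_comp]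
      exact AlgGrpBasic19.act_one a p, hp] at h2
  have e : (orb a p).left η₀ = (orb a q).left η₀ := (horb p z hp hMz).trans (horb q _ (by
    rw [hap]; congr 1; exact @Subsingleton.elim ↥(Spec (CommRingCat.of k)) _ _ _) hMx).symm
  -- a common geometric point of the two
  obtain ⟨w, hw1, hw2⟩ := Scheme.Pullback.exists_preimage_pullback (f := (orb a p).left) (g := (orb a q).left) η₀ η₀ e
  let W := pullback (orb a p).left (orb a q).left
  let L := AlgebraicClosure (W.residueField w)
  let iw : Spec (CommRingCat.of L) ⟶ W :=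
    Spec.map (CommRingCat.ofHom (algebraMap (W.residueField w) L)) ≫ W.fromSpecResidueField w
  let yT : Spec (CommRingCat.of L) ⟶ Spec (CommRingCat.of k) := iw ≫ pullback.fst (orb a p).left (orb a q).left ≫ (T ⊗ G).hom
  let T' : Over (Spec (CommRingCat.of k)) := Over.mk yT
  let pt : T'.left := (IsLocalRing.closedPoint L : Spec (CommRingCat.of L))
  let k₁ : T' ⟶ T ⊗ G := Over.homMk (iw ≫ pullback.fst (orb a p).left (orb a q).left) (Category.assoc _ _ _)
  let k₂ : T' ⟶ T ⊗ G := Over.homMk (iw ≫ pullback.snd (orb a p).left (orb a q).left) (by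
    show _ = iw ≫ pullback.fst (orb a p).left (orb a q).left ≫ (T ⊗ G).hom
    have h := pullback.condition (f := (orb a p).left) (g := (orb a q).left) =≫ (T ⊗ X).hom
    rw [Category.assoc, Category.assoc, Over.w (orb a p), Over.w (orb a q)] at h
    rw [Category.assoc, h])
  have hk : k₁ ≫ orb a p = k₂ ≫ orb a q := by
    apply Over.OverMorphism.ext
    exact (Category.assoc _ _ _).trans (((iw ≫= pullback.condition (f := (orb a p).left) (g := (orb a q).left))).trans (Category.assoc _ _ _).symm)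
  have hiw : iw pt = w := by
    rw [Scheme.Hom.comp_apply]
    exact Scheme.fromSpecResidueField_apply w _
  have hk₁ : k₁.left pt = η₀ := by
    show (iw ≫ pullback.fst (orb a p).left (orb a q).left) pt = _
    rw [Scheme.Hom.comp_apply, hiw, hw1]
  have hk₂ : k₂.left pt = η₀ := by
    show (iw ≫ pullback.snd (orb a p).left (orb a q).left) pt = _
    rw [Scheme.Hom.comp_apply, hiw, hw2]
  let gm1 : T' ⟶ G := k₁ ≫ snd T G
  let gm2 : T' ⟶ G := k₂ ≫ snd T G
  have hgm1 : gm1.left pt = M₀ := by rw [hap, hk₁, hη₀M]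
  have hgm2 : gm2.left pt = M₀ := by rw [hap, hk₂, hη₀M]
  have hs := congrArg (fun φ => φ ≫ snd T X) hk
  simp only [orb, Category.assoc, lift_snd, comp_lift_assoc] at hs
  rw [show k₂ ≫ fst T G ≫ q = toUnit T' ≫ x by simp [q]] at hs
  let g : T' ⟶ G := gm1⁻¹ * gm2
  have horbg : g ≫ a.orbitMap x = k₁ ≫ fst T G ≫ p := by
    rw [AlgGrp.Action.orbitMap, comp_lift_assoc, Category.comp_id, ← Category.assoc g, comp_toUnit,
      AlgGrpBasic19.act_mul, ← hs, ← AlgGrpBasic19.act_mul, inv_mul_cancel, AlgGrpBasic19.act_one]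
  refine ⟨g.left pt, ?_, ?_⟩
  · obtain ⟨η', hη', hη'M, hη'e, hgen'⟩ := exists_generic hM₀ hM₀e (K := L) (y := yT)
    haveI := flat_snd yT G
    let τ := trans (OrbitTop19.mulAction G) gm1⁻¹
    have hτm : FlatH4.IsMaxPt (τ.left η') :=
      isMaxPt_map_iso _ _ (inv_trans _ gm1) (trans_inv _ gm1) hη'
    have hsp : ∀ gm : T' ⟶ G, gm.left pt = M₀ → τ.left η' ⤳ (lift (𝟙 T') (gm1⁻¹ * gm)).left pt := fun gm hgm => by
      have h1 := (hgen' ((lift (𝟙 T') gm).left pt) (by rw [← hap, lift_snd]; exact hgm.symm ▸ specializes_rfl)).map τ.left.continuous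
      rwa [← hap, lift_trans, show lift gm1⁻¹ gm ≫ (OrbitTop19.mulAction G).act = gm1⁻¹ * gm from rfl] at h1
    have h1 : τ.left η' ⤳ (lift (𝟙 T') (1 : T' ⟶ G)).left pt := by simpa using hsp gm1 hgm1
    have h2 := (hsp gm2 hgm2).map (snd T' G).left.continuous
    rw [eq_of_isMaxPt_rational (OrbitTop19.mulAction G) (surjective_mul G) (1 : T' ⟶ G) hτm hη' h1 hη'e, hη'M,
      ← hap, lift_snd] at h2
    exact h2
  · rw [← hap, horbg, hap, hap, ← hp]
    congr 1
    exact Subsingleton.elim (α := T.left) _ _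

end Groth.Agent.GrpHomog20
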