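import Groth.Agent.Lib.GrpHomog20.Field
import Mathlib.AlgebraicGeometry.Morphisms.UniversallyOpen
import Mathlib.AlgebraicGeometry.Morphisms.QuasiSeparated

/-!
# Translates by the neutral component over a field
-/

universe u

open CategoryTheory Limits MonoidalCategory CartesianMonoidalCategory AlgebraicGeometry Topology
open scoped MonObj GrpObj

set_option linter.style.haveILetI false
set_option backward.isDefEq.respectTransparency false

namespace Groth.Agent.GrpHomog20

variable {k : Type u} [Field k] {G X : Over (Spec (CommRingCat.of k))} [GrpObj G]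

variable {M₀ : G.left} (hM₀ : FlatH4.IsMaxPt M₀) (hM₀e : M₀ ⤳ η[G].left (IsLocalRing.closedPoint k : Spec (CommRingCat.of k)))

theorem flipAct_act (a : AlgGrp.Action G X) : lift (fst G X)⁻¹ a.act ≫ a.act = snd G X := by
  have h := AlgGrpBasic19.act_mul a (fst G X)⁻¹ (fst G X) (snd G X)
  rw [inv_mul_cancel, AlgGrpBasic19.act_one, lift_fst_snd, Category.id_comp] at h
  exact h.symm

include hM₀ hM₀e in
/-- The component of the unit is stable under inversion. -/
theorem inv_comp_mem {g : G.left} (hg : M₀ ⤳ g) : M₀ ⤳ ι[G].left g := by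
  have hι : ι[G] ≫ ι[G] = 𝟙 G := by
    rw [GrpObj.inv_comp_inv]
  have hm := isMaxPt_map_iso ι[G] ι[G] hι hι hM₀
  have he : ι[G].left M₀ ⤳ η[G].left (IsLocalRing.closedPoint k : Spec (CommRingCat.of k)) := by
    have h := hM₀e.map ι[G].left.continuous
    rwa [← hap, GrpObj.inv_eq_inv, GrpObj.comp_inv, Category.comp_id, MonObj.one_eq_one, inv_one,
      ← MonObj.one_eq_one, ← GrpObj.inv_eq_inv] at h
  rw [← eq_of_isMaxPt (OrbitTop19.mulAction G) (surjective_mul G) hm hM₀ he hM₀e]
  exact hg.map ι[G].left.continuous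

include hM₀ hM₀e in
/-- Over an algebraically closed extension the component of the unit has a generic point. -/
theorem exists_generic {K : Type u} [Field K] [IsAlgClosed K] (y : Spec (CommRingCat.of K) ⟶ Spec (CommRingCat.of k)) :
    ∃ η₀ : (Over.mk y ⊗ G).left, FlatH4.IsMaxPt η₀ ∧ (snd (Over.mk y) G).left η₀ = M₀ ∧
      η₀ ⤳ (lift (𝟙 (Over.mk y)) (1 : Over.mk y ⟶ G)).left (IsLocalRing.closedPoint K : Spec (CommRingCat.of K)) ∧
      ∀ h, M₀ ⤳ (snd (Over.mk y) G).left h → η₀ ⤳ h := by
  let T : Over (Spec (CommRingCat.of k)) := Over.mk y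
  let e' := (lift (𝟙 T) (1 : T ⟶ G)).left (IsLocalRing.closedPoint K : Spec (CommRingCat.of K))
  haveI : Subsingleton ↥(Spec (CommRingCat.of k)) := inferInstanceAs (Subsingleton (PrimeSpectrum k))
  have he' : (snd T G).left e' = η[G].left (IsLocalRing.closedPoint k : Spec (CommRingCat.of k)) := by
    rw [← hap, lift_snd, Hom.one_def, hap]
    congr 1
    exact @Subsingleton.elim ↥(Spec (CommRingCat.of k)) _ _ _
  obtain ⟨η₀, hη₀, hη₀e, hη₀M⟩ := exists_max_over hM₀ e' (he'.symm ▸ hM₀e)
  refine ⟨η₀, hη₀, hη₀M, hη₀e, ?_⟩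
  obtain ⟨Z, i, hiC, hiI, hi⟩ := GrpField.exists_closedImmersion_range (isClosed_closure (s := ({M₀} : Set G.left)))
    isIrreducible_singleton.closure
  haveI := hiC
  haveI := geometricallyIrreducible_component (OrbitTop19.mulAction G) (surjective_mul G) η[G] hM₀ hM₀e i hi
  obtain ⟨ψ, hψ⟩ : ∃ ψ : CommRingCat.of k ⟶ CommRingCat.of K, Spec.map ψ = y := ⟨Spec.preimage y, Spec.map_preimage _⟩
  haveI : IrreducibleSpace ↥(pullback (i ≫ G.hom) y) :=
    GeometricallyIrreducible.geometrically_irreducibleSpace (f := i ≫ G.hom) _ _ _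
      (show IsPullback (pullback.fst (i ≫ G.hom) y) (pullback.snd (i ≫ G.hom) y) (i ≫ G.hom) (Spec.map ψ) from
        hψ ▸ IsPullback.of_hasPullback (i ≫ G.hom) y)
  let j : pullback (i ≫ G.hom) y ⟶ (T ⊗ G).left :=
    pullback.lift (pullback.snd (i ≫ G.hom) y) (pullback.fst (i ≫ G.hom) y ≫ i)
      (by rw [Category.assoc, pullback.condition]; rfl)
  have sq : IsPullback j (pullback.fst (i ≫ G.hom) y) (snd T G).left i :=
    IsPullback.of_right (h₁₁ := j) (h₁₂ := (fst T G).left) (v₁₁ := pullback.fst (i ≫ G.hom) y)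
      (h₂₁ := i) (h₂₂ := G.hom) (v₁₃ := T.hom)
      (by
        rw [show j ≫ (fst T G).left = pullback.snd (i ≫ G.hom) y from pullback.lift_fst _ _ _]
        exact (IsPullback.of_hasPullback (i ≫ G.hom) y).flip)
      (pullback.lift_snd _ _ _) (IsPullback.of_hasPullback T.hom G.hom)
  obtain ⟨ξ, hξ⟩ := QuasiSober.sober (IrreducibleSpace.isIrreducible_univ ↥(pullback (i ≫ G.hom) y)) isClosed_univ
  have key : ∀ h, M₀ ⤳ (snd T G).left h → j ξ ⤳ h := by
    intro h hh
    obtain ⟨b, hb⟩ : (snd T G).left h ∈ Set.range i := hi.ge hh.mem_closure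
    obtain ⟨q, hq, -⟩ := Scheme.exists_preimage_of_isPullback sq h b hb.symm
    rw [← hq]
    exact (hξ.specializes (Set.mem_univ q)).map j.continuous
  intro h hh
  rw [← hη₀ _ (key η₀ (hη₀M ▸ specializes_rfl))]
  exact key h hh

include hM₀ hM₀e in
/-- Translating by the component of the unit preserves the maximal generalization. -/
theorem maxPt_translate (a : AlgGrp.Action G X) (hΦ : Surjective (lift a.act (snd G X)).left)
    {M : X.left} (hM : FlatH4.IsMaxPt M) (w : (G ⊗ X).left) (hw : M₀ ⤳ (fst G X).left w)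
    (h : M ⤳ (snd G X).left w) : M ⤳ a.act.left w := by
  obtain ⟨K, _, _, y, p, hp⟩ := exists_geom_pt X ((snd G X).left w)
  let T : Over (Spec (CommRingCat.of k)) := Over.mk y
  let pt : T.left := (IsLocalRing.closedPoint K : Spec (CommRingCat.of K))
  obtain ⟨η₀, hη₀, -, hη₀e, hgen⟩ := exists_generic hM₀ hM₀e y
  haveI := flat_snd y X
  let f : T ⊗ G ⟶ G ⊗ X := lift (snd T G) (fst T G ≫ p)
  have hmax := (isMaxPt_orbit a hΦ p hη₀ hη₀e).map_of_flat (snd T X).left
  have hN : (snd T X).left ((orb a p).left η₀) = (f ≫ a.act).left η₀ := by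
    rw [← hap, lift_snd]
  rw [hN] at hmax
  have hMo : (f ≫ a.act).left η₀ = M := by
    refine eq_of_isMaxPt a hΦ hmax hM ?_ h
    have h2 := hη₀e.map (f ≫ a.act).left.continuous
    rwa [← hap, show lift (𝟙 T) (1 : T ⟶ G) ≫ f ≫ a.act = p by
      simp only [f]
      rw [comp_lift_assoc, lift_snd, lift_fst_assoc, Category.id_comp]
      exact AlgGrpBasic19.act_one a p, hp] at h2
  have sq : IsPullback f.left (fst T G).left (snd G X).left p.left := by
    have h0 : IsPullback (fst T G ≫ 𝟙 _) (lift (snd T G) (fst T G ≫ p)) p (snd G X) := by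
      refine ⟨⟨by simp⟩, ⟨PullbackCone.IsLimit.mk _ (fun c => lift c.fst (c.snd ≫ fst G X)) (fun c => by simp)
        (fun c => ?_) (fun c m h1 h2 => ?_)⟩⟩
      · apply CartesianMonoidalCategory.hom_ext
        · simp
        · simp [c.condition]
      · apply CartesianMonoidalCategory.hom_ext
        · simpa using h1
        · simp [← h2]
    rw [Category.comp_id] at h0
    exact (h0.map (Over.forget _)).flip
  obtain ⟨h₁, hh₁, -⟩ := Scheme.exists_preimage_of_isPullback sq w pt hp.symm
  have h3 := (hgen h₁ (by rw [show snd T G = f ≫ fst G X from (lift_fst _ _).symm, hap, hh₁]; exact hw)).map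
    (f ≫ a.act).left.continuous
  rw [hMo, hap, hh₁] at h3
  exact h3

include hM₀ hM₀e in
/-- A point is moved to its maximal generalization by the component of the unit. -/
theorem exists_translate (a : AlgGrp.Action G X) (hΦ : Surjective (lift a.act (snd G X)).left)
    {M x : X.left} (hM : FlatH4.IsMaxPt M) (h : M ⤳ x) :
    ∃ w : (G ⊗ X).left, M₀ ⤳ (fst G X).left w ∧ (snd G X).left w = x ∧ a.act.left w = M := by
  obtain ⟨K, _, _, y, p, hp⟩ := exists_geom_pt X x
  let T : Over (Spec (CommRingCat.of k)) := Over.mk y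
  haveI : Subsingleton T.left := inferInstanceAs (Subsingleton (PrimeSpectrum K))
  obtain ⟨η₀, hη₀, hη₀M, hη₀e, -⟩ := exists_generic hM₀ hM₀e y
  haveI := flat_snd y X
  let f : T ⊗ G ⟶ G ⊗ X := lift (snd T G) (fst T G ≫ p)
  have hfst : (fst G X).left (f.left η₀) = M₀ := by rw [← hap, lift_fst]; exact hη₀M
  have hsnd : (snd G X).left (f.left η₀) = x := by
    rw [← hap, lift_snd, hap, ← hp]
    congr 1
    exact Subsingleton.elim (α := T.left) _ _
  refine ⟨f.left η₀, hfst ▸ specializes_rfl, hsnd, ?_⟩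
  have h1 := maxPt_translate hM₀ hM₀e a hΦ hM (f.left η₀) (hfst ▸ specializes_rfl) (hsnd ▸ h)
  have hmax := (isMaxPt_orbit a hΦ p hη₀ hη₀e).map_of_flat (snd T X).left
  rw [← hap (orb a p), lift_snd, hap] at hmax
  exact (hmax _ h1).symm

/-- The set of translates of `U` by the component of the unit. -/
def translates (a : AlgGrp.Action G X) (C0 : Set G.left) (U : Set X.left) : Set X.left :=
  a.act.left '' {z : ↥(G ⊗ X).left | (fst G X).left z ∈ C0 ∧ (snd G X).left z ∈ U}

include hM₀ hM₀e in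
theorem mem_translates_iff (a : AlgGrp.Action G X) (hΦ : Surjective (lift a.act (snd G X)).left) (U : X.left.Opens)
    {M x : X.left} (hM : FlatH4.IsMaxPt M) (h : M ⤳ x) :
    x ∈ translates a (closure {M₀}) U ↔ M ∈ U := by
  constructor
  · rintro ⟨w, ⟨hw1, hw2⟩, rfl⟩
    obtain ⟨M', hM', hM'w⟩ := FlatH4.exists_isMaxPt_specializes ((snd G X).left w)
    rw [eq_of_isMaxPt a hΦ hM hM' h (maxPt_translate hM₀ hM₀e a hΦ hM' w (specializes_iff_mem_closure.2 hw1) hM'w)]
    exact hM'w.mem_open U.2 hw2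
  · intro hU
    obtain ⟨w, hw1, hw2, hw3⟩ := exists_translate hM₀ hM₀e a hΦ hM h
    refine ⟨(lift (fst G X)⁻¹ a.act).left w, ⟨?_, ?_⟩, ?_⟩
    · rw [← hap, lift_fst, ← Category.comp_id (fst G X), ← GrpObj.comp_inv, ← GrpObj.inv_eq_inv, hap]
      exact (inv_comp_mem hM₀ hM₀e hw1).mem_closure
    · rw [← hap, lift_snd, hw3]
      exact hU
    · rw [← hap, flipAct_act, hw2]

include hM₀ hM₀e in
theorem isOpen_translates (a : AlgGrp.Action G X) (hΦ : Surjective (lift a.act (snd G X)).left) (U : X.left.Opens) :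
    IsOpen (translates a (closure {M₀}) U) := by
  obtain ⟨Z, i, hiC, -, hi⟩ := GrpField.exists_closedImmersion_range (isClosed_closure (s := ({M₀} : Set G.left)))
    isIrreducible_singleton.closure
  haveI : Subsingleton ↥(Spec (CommRingCat.of k)) := inferInstanceAs (Subsingleton (PrimeSpectrum k))
  haveI : UniversallyOpen (i ≫ G.hom) := inferInstance
  let c : pullback (i ≫ G.hom) X.hom ⟶ (G ⊗ X).left :=
    pullback.map (i ≫ G.hom) X.hom G.hom X.hom i (𝟙 _) (𝟙 _) (by simp) (by simp)
  have hc : Set.range c = (fst G X).left ⁻¹' closure {M₀} := by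
    refine (Scheme.Pullback.range_map _ _ _ _ _ _ (𝟙 _) _ _).trans ?_
    rw [hi]
    exact Set.inter_eq_left.2 fun z _ => ⟨_, rfl⟩
  have e : translates a (closure {M₀}) U = pullback.snd (i ≫ G.hom) X.hom '' ((c ≫ a.act.left) ⁻¹' U) := by
    ext x
    obtain ⟨M, hM, hMx⟩ := FlatH4.exists_isMaxPt_specializes x
    rw [mem_translates_iff hM₀ hM₀e a hΦ U hM hMx]
    constructor
    · intro hU
      obtain ⟨w, hw1, hw2, hw3⟩ := exists_translate hM₀ hM₀e a hΦ hM hMx
      obtain ⟨q, rfl⟩ := hc.ge hw1.mem_closure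
      refine ⟨q, ?_, ?_⟩
      · show a.act.left (c q) ∈ U
        rw [hw3]; exact hU
      · rw [← hw2, ← Scheme.Hom.comp_apply, show c ≫ (snd G X).left = pullback.snd (i ≫ G.hom) X.hom from
          (pullback.lift_snd _ _ _).trans (Category.comp_id _)]
    · rintro ⟨q, hq, rfl⟩
      have hq' : a.act.left (c q) ∈ U := hq
      refine (maxPt_translate hM₀ hM₀e a hΦ hM (c q) (specializes_iff_mem_closure.2 (hc.le ⟨q, rfl⟩)) ?_).mem_open U.2 hq'
      rwa [← Scheme.Hom.comp_apply, show c ≫ (snd G X).left = pullback.snd (i ≫ G.hom) X.hom from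
          (pullback.lift_snd _ _ _).trans (Category.comp_id _)]
  rw [e]
  exact (pullback.snd (i ≫ G.hom) X.hom).isOpenMap _ (U.2.preimage (c ≫ a.act.left).continuous)

include hM₀ hM₀e in
/-- The translates of a retrocompact open form its closure. -/
theorem translates_eq_closure (a : AlgGrp.Action G X) (hΦ : Surjective (lift a.act (snd G X)).left) (U : X.left.Opens)
    [QuasiCompact U.ι] : translates a (closure {M₀}) U = closure (U : Set X.left) := by
  ext x
  obtain ⟨M, hM, hMx⟩ := FlatH4.exists_isMaxPt_specializes x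
  rw [mem_translates_iff hM₀ hM₀e a hΦ U hM hMx]
  refine ⟨fun h => hMx.mem_closed isClosed_closure (subset_closure h), fun h => ?_⟩
  obtain ⟨t, ht⟩ := H12.exists_specializes_of_mem_closure_range U.ι x (by rwa [Scheme.Opens.range_ι])
  obtain ⟨M', hM', hM't⟩ := FlatH4.exists_isMaxPt_specializes (U.ι t)
  rw [eq_of_isMaxPt a hΦ hM hM' hMx (hM't.trans ht)]
  exact hM't.mem_open U.2 t.2

include hM₀ hM₀e in
/-- The connected components of a quasi-separated homogeneous space are irreducible. -/
theorem connectedComponent_eq_closure [QuasiSeparatedSpace X.left] (a : AlgGrp.Action G X)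
    (hΦ : Surjective (lift a.act (snd G X)).left) {M x : X.left} (hM : FlatH4.IsMaxPt M) (h : M ⤳ x) :
    connectedComponent x = closure {M} := by
  refine Set.Subset.antisymm (fun z hz => ?_) ?_
  · obtain ⟨M', hM', hM'z⟩ := FlatH4.exists_isMaxPt_specializes z
    rw [← specializes_iff_mem_closure]
    by_contra hne
    have hMM' : M ≠ M' := fun e => hne (e ▸ hM'z)
    obtain ⟨W, hW, hMW, hWsub⟩ := exists_isAffineOpen_mem_and_subset (X := X.left) (x := M)
      (U := ⟨(closure ({M'} : Set X.left))ᶜ, isClosed_closure.isOpen_compl⟩) (fun hc =>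
        hMM' (hM _ (specializes_iff_mem_closure.2 hc)).symm)
    haveI : CompactSpace W.toScheme := isCompact_iff_compactSpace.1 hW.isCompact
    haveI : QuasiCompact W.ι := quasiCompact_of_compactSpace _
    have hclopen : IsClopen (translates a (closure {M₀}) W) :=
      ⟨translates_eq_closure hM₀ hM₀e a hΦ W ▸ isClosed_closure, isOpen_translates hM₀ hM₀e a hΦ W⟩
    have hx := hclopen.connectedComponent_subset ((mem_translates_iff hM₀ hM₀e a hΦ W hM h).2 hMW) hz
    exact hWsub ((mem_translates_iff hM₀ hM₀e a hΦ W hM' hM'z).1 hx) (subset_closure rfl)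
  · exact isIrreducible_singleton.closure.isPreirreducible.isPreconnected.subset_connectedComponent h.mem_closure

end Groth.Agent.GrpHomog20
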