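import Groth.Agent.Lib.AlgGrpBasic19.Basic
import Groth.Agent.Lib.OrbitTop19.Base
import Groth.Agent.Lib.GrpField.Irreducible
import Groth.Agent.Lib.AbRigid.Shear
import Groth.Agent.Lib.FlatH4.GenPt
import Mathlib.FieldTheory.IsAlgClosed.AlgebraicClosure

/-!
# Maximal points of homogeneous spaces over geometric points, without finiteness hypotheses
-/

universe u

open CategoryTheory Limits MonoidalCategory CartesianMonoidalCategory AlgebraicGeometry Topology
open scoped MonObj GrpObj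

set_option linter.style.haveILetI false
set_option backward.isDefEq.respectTransparency false

namespace Groth.Agent.GrpHomog20

variable {S : Scheme.{u}} {G X : Over S} [GrpObj G]

/-- The orbit map of a point with values in `T`. -/
noncomputable abbrev orb (a : AlgGrp.Action G X) {T : Over S} (p : T ⟶ X) : T ⊗ G ⟶ T ⊗ X :=
  lift (fst T G) (lift (snd T G) (fst T G ≫ p) ≫ a.act)

/-- Translation on `T ⊗ X` by a point of the group. -/
noncomputable abbrev trans (a : AlgGrp.Action G X) {T : Over S} (g : T ⟶ G) : T ⊗ X ⟶ T ⊗ X :=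
  lift (fst T X) (lift (fst T X ≫ g) (snd T X) ≫ a.act)

theorem trans_inv (a : AlgGrp.Action G X) {T : Over S} (g : T ⟶ G) : trans a g ≫ trans a g⁻¹ = 𝟙 _ := by
  apply CartesianMonoidalCategory.hom_ext
  · simp
  · simp only [trans, Category.assoc, lift_snd, comp_lift_assoc, lift_fst_assoc, Category.id_comp]
    rw [← AlgGrpBasic19.act_mul, GrpObj.comp_inv, inv_mul_cancel, AlgGrpBasic19.act_one]

theorem inv_trans (a : AlgGrp.Action G X) {T : Over S} (g : T ⟶ G) : trans a g⁻¹ ≫ trans a g = 𝟙 _ := by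
  simpa using trans_inv a g⁻¹

theorem lift_trans (a : AlgGrp.Action G X) {T : Over S} (g : T ⟶ G) (p : T ⟶ X) :
    lift (𝟙 T) p ≫ trans a g = lift (𝟙 T) (lift g p ≫ a.act) := by
  apply CartesianMonoidalCategory.hom_ext
  · simp
  · simp only [trans, Category.assoc, lift_snd]
    rw [comp_lift_assoc, lift_fst_assoc, lift_snd, Category.id_comp]

theorem hap {A B C : Over S} (f : A ⟶ B) (g : B ⟶ C) (p : A.left) : (f ≫ g).left p = g.left (f.left p) := by
  rw [Over.comp_left, Scheme.Hom.comp_apply]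

theorem isMaxPt_map_iso {A : Over S} (f g : A ⟶ A) (hfg : f ≫ g = 𝟙 A) (hgf : g ≫ f = 𝟙 A) {x : A.left}
    (h : FlatH4.IsMaxPt x) : FlatH4.IsMaxPt (f.left x) := by
  intro y hy
  have h1 : g.left y ⤳ x := by
    have := hy.map g.left.continuous
    rwa [← hap f g, hfg] at this
  have h2 := congrArg f.left (h _ h1)
  rwa [← hap g f, hgf] at h2

/-- The orbit map of a point is surjective. -/
theorem exists_orbit_pt (a : AlgGrp.Action G X) (hΦ : Surjective (lift a.act (snd G X)).left)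
    {T : Over S} (p : T ⟶ X) (P : (T ⊗ X).left) : ∃ h, (orb a p).left h = P := by
  let T₁ : Over S := Over.mk ((T ⊗ X).left.fromSpecResidueField P ≫ (T ⊗ X).hom)
  let ρ : T₁ ⟶ T ⊗ X := Over.homMk ((T ⊗ X).left.fromSpecResidueField P) rfl
  let j : T₁ ⟶ X ⊗ X := ρ ≫ lift (snd T X) (fst T X ≫ p)
  let q : T₁.left := (IsLocalRing.closedPoint ((T ⊗ X).left.residueField P) : Spec ((T ⊗ X).left.residueField P))
  obtain ⟨z, hz⟩ := hΦ.surj (j.left q)
  obtain ⟨w₀, hw₁, -⟩ := Scheme.Pullback.exists_preimage_pullback (f := j.left) (g := (lift a.act (snd G X)).left) q z hz.symm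
  let T₂ : Over S := Over.mk (pullback.fst j.left (lift a.act (snd G X)).left ≫ T₁.hom)
  let k₁ : T₂ ⟶ T₁ := Over.homMk (pullback.fst j.left (lift a.act (snd G X)).left) rfl
  let k₂ : T₂ ⟶ G ⊗ X := Over.homMk (pullback.snd j.left (lift a.act (snd G X)).left) (by
    show _ = pullback.fst j.left (lift a.act (snd G X)).left ≫ T₁.hom
    rw [← Over.w j, ← Over.w (lift a.act (snd G X)), ← Category.assoc, ← pullback.condition, Category.assoc])
  have hk : k₁ ≫ j = k₂ ≫ lift a.act (snd G X) := by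
    apply Over.OverMorphism.ext
    exact pullback.condition (f := j.left) (g := (lift a.act (snd G X)).left)
  refine ⟨(lift (k₁ ≫ ρ ≫ fst T X) (k₂ ≫ fst G X)).left w₀, ?_⟩
  rw [← hap, show lift (k₁ ≫ ρ ≫ fst T X) (k₂ ≫ fst G X) ≫ orb a p = k₁ ≫ ρ from ?_, hap]
  · exact Scheme.fromSpecResidueField_apply P _
  · have e1 : k₂ ≫ a.act = k₁ ≫ ρ ≫ snd T X := by
      simpa [j] using congrArg (fun φ => φ ≫ fst X X) hk.symm
    have e2 : k₂ ≫ snd G X = k₁ ≫ ρ ≫ fst T X ≫ p := by
      simpa [j] using congrArg (fun φ => φ ≫ snd X X) hk.symm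
    apply CartesianMonoidalCategory.hom_ext
    · simp
    · simp only [orb, Category.assoc, lift_snd, comp_lift_assoc, lift_fst_assoc]
      rw [← e2, ← e1, ← comp_lift_assoc, lift_fst_snd, Category.id_comp]

/-- Multiplication makes a group homogeneous. -/
theorem surjective_mul (G : Over S) [GrpObj G] :
    Surjective (lift (OrbitTop19.mulAction G).act (snd G G)).left := by
  let Φ : G ⊗ G ≅ G ⊗ G :=
    { hom := lift (fst G G * snd G G) (snd G G)
      inv := lift (fst G G * (snd G G)⁻¹) (snd G G)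
      hom_inv_id := by
        apply CartesianMonoidalCategory.hom_ext <;> simp [MonObj.comp_mul, GrpObj.comp_inv, GrpObj.inv_eq_inv]
      inv_hom_id := by
        apply CartesianMonoidalCategory.hom_ext <;> simp [MonObj.comp_mul, GrpObj.comp_inv, GrpObj.inv_eq_inv] }
  have hμ : (OrbitTop19.mulAction G).act = fst G G * snd G G := by
    show μ[G] = _
    rw [Hom.mul_def, lift_fst_snd, Category.id_comp]
  rw [hμ]
  haveI : IsIso Φ.hom.left := inferInstanceAs (IsIso ((Over.forget S).mapIso Φ).hom)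
  exact inferInstanceAs (Surjective Φ.hom.left)

theorem lift_whiskerRight {T T' Z : Over S} (j : T' ⟶ T) (z : T' ⟶ Z) :
    lift (𝟙 T') z ≫ (j ▷ Z) = lift j z := by
  apply CartesianMonoidalCategory.hom_ext <;> simp

omit [GrpObj G] in
theorem lift_whiskerRight_comp {T T' Z : Over S} (j : T' ⟶ T) (p : T ⟶ Z) :
    lift (𝟙 T') (j ≫ p) ≫ (j ▷ Z) = j ≫ lift (𝟙 T) p := by
  apply CartesianMonoidalCategory.hom_ext <;> simp

theorem one_whiskerRight {T T' : Over S} (j : T' ⟶ T) :
    lift (𝟙 T') (1 : T' ⟶ G) ≫ (j ▷ G) = j ≫ lift (𝟙 T) (1 : T ⟶ G) := by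
  rw [← lift_whiskerRight_comp, MonObj.comp_one]

theorem lift_orb (a : AlgGrp.Action G X) {T T' : Over S} (j : T' ⟶ T) (g : T' ⟶ G) (p : T ⟶ X) :
    lift (𝟙 T') (lift g (j ≫ p) ≫ a.act) ≫ (j ▷ X) = lift j g ≫ orb a p := by
  rw [lift_whiskerRight]
  apply CartesianMonoidalCategory.hom_ext
  · simp
  · simp only [orb, Category.assoc, lift_snd]
    rw [comp_lift_assoc, lift_snd, lift_fst_assoc]

theorem orb_whiskerRight (a : AlgGrp.Action G X) {T T' : Over S} (j : T' ⟶ T) (p : T ⟶ X) :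
    orb a (j ≫ p) ≫ (j ▷ X) = (j ▷ G) ≫ orb a p := by
  apply CartesianMonoidalCategory.hom_ext
  · rw [Category.assoc, Category.assoc, whiskerRight_fst, lift_fst_assoc, lift_fst, whiskerRight_fst]
  · rw [Category.assoc, Category.assoc, whiskerRight_snd]
    simp only [orb, lift_snd]
    rw [comp_lift_assoc, whiskerRight_snd, whiskerRight_fst_assoc]

theorem trans_orb (a : AlgGrp.Action G X) {T : Over S} (g : T ⟶ G) (p : T ⟶ X) :
    trans (OrbitTop19.mulAction G) g ≫ orb a p = orb a p ≫ trans a g := by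
  apply CartesianMonoidalCategory.hom_ext
  · simp
  · simp only [orb, trans, Category.assoc, lift_snd]
    rw [comp_lift_assoc, comp_lift_assoc, lift_snd, lift_fst_assoc, lift_fst_assoc, lift_snd]
    rw [show (lift (fst T G ≫ g) (snd T G) ≫ (OrbitTop19.mulAction G).act) = (fst T G ≫ g) * snd T G from rfl]
    exact AlgGrpBasic19.act_mul a _ _ _

section point

variable {K : Type u} [Field K] [IsAlgClosed K] {y : Spec (CommRingCat.of K) ⟶ S}

omit [GrpObj G] in
/-- The comparison map of a field extension is flat. -/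
theorem flat_whiskerRight {L : Type u} [Field L] {y' : Spec (CommRingCat.of L) ⟶ S} (j : Over.mk y' ⟶ Over.mk y)
    (Z : Over S) : Flat (j ▷ Z).left := by
  obtain ⟨ψ, hψ⟩ : ∃ ψ : CommRingCat.of K ⟶ CommRingCat.of L, Spec.map ψ = j.left :=
    ⟨Spec.preimage (S := CommRingCat.of L) (R := CommRingCat.of K) j.left, Spec.map_preimage _⟩
  haveI : Subsingleton ↥(Spec (CommRingCat.of K)) := inferInstanceAs (Subsingleton (PrimeSpectrum K))
  haveI : Flat j.left := hψ ▸ (inferInstance : Flat (Spec.map ψ))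
  exact MorphismProperty.of_isPullback (P := @Flat) ((AbRigid.isPullback_whiskerRight j Z).map (Over.forget S)) ‹Flat j.left›

omit [GrpObj G] in
/-- Over an algebraically closed base the fibres of a field extension are irreducible. -/
theorem exists_fib_generic {L : Type u} [Field L] {y' : Spec (CommRingCat.of L) ⟶ S} (j : Over.mk y' ⟶ Over.mk y)
    (Z : Over S) (P : (Over.mk y ⊗ Z).left) :
    ∃ Q : (Over.mk y' ⊗ Z).left, (j ▷ Z).left Q = P ∧ (∀ R, (j ▷ Z).left R = P → Q ⤳ R) ∧
      (FlatH4.IsMaxPt P → FlatH4.IsMaxPt Q) := by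
  let T : Over S := Over.mk y
  let T' : Over S := Over.mk y'
  let r := j ▷ Z
  have sqr : IsPullback (fst T' Z).left r.left j.left (fst T Z).left :=
    (AbRigid.isPullback_whiskerRight j Z).map (Over.forget S)
  obtain ⟨ψ, hψ⟩ : ∃ ψ : CommRingCat.of K ⟶ CommRingCat.of L, Spec.map ψ = j.left :=
    ⟨Spec.preimage (S := CommRingCat.of L) (R := CommRingCat.of K) j.left, Spec.map_preimage _⟩
  let Qp := (T ⊗ Z).left.fromSpecResidueField P
  have big : IsPullback (pullback.fst Qp r.left) (pullback.snd Qp r.left ≫ (fst T' Z).left)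
      (Qp ≫ (fst T Z).left) (Spec.map ψ) := by
    rw [hψ]
    exact (IsPullback.of_hasPullback Qp r.left).paste_vert sqr.flip
  haveI : IrreducibleSpace ↥(Spec ((T ⊗ Z).left.residueField P)) :=
    inferInstanceAs (IrreducibleSpace (PrimeSpectrum _))
  haveI := GrpField.geometricallyIrreducible_of_isAlgClosed (K := K) (X := Spec ((T ⊗ Z).left.residueField P))
    (Qp ≫ (fst T Z).left)
  haveI : IrreducibleSpace ↥(pullback Qp r.left) :=
    GeometricallyIrreducible.geometrically_irreducibleSpace (f := Qp ≫ (fst T Z).left) _ _ _ big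
  have hrange : Set.range (pullback.snd Qp r.left) = r.left ⁻¹' {P} := by
    rw [Scheme.Pullback.range_snd, Scheme.range_fromSpecResidueField]
  obtain ⟨ξ, hξ⟩ := QuasiSober.sober (IrreducibleSpace.isIrreducible_univ ↥(pullback Qp r.left)) isClosed_univ
  have key : ∀ R, r.left R = P → pullback.snd Qp r.left ξ ⤳ R := by
    intro R hR
    obtain ⟨R₀, rfl⟩ : R ∈ Set.range (pullback.snd Qp r.left) := hrange.ge hR
    exact (hξ.specializes (Set.mem_univ R₀)).map (pullback.snd Qp r.left).continuous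
  have hQP : r.left (pullback.snd Qp r.left ξ) = P := hrange.le ⟨ξ, rfl⟩
  refine ⟨_, hQP, key, fun hP R hR => ?_⟩
  have hRP : r.left R = P := hP _ (hQP ▸ hR.map r.left.continuous)
  exact (hR.antisymm (key R hRP)).eq

omit [GrpObj G] [IsAlgClosed K] in
/-- Every point is rational over some algebraically closed extension. -/
theorem exists_ext (Z : Over S) (h : (Over.mk y ⊗ Z).left) :
    ∃ (L : Type u) (_ : Field L) (_ : IsAlgClosed L) (y' : Spec (CommRingCat.of L) ⟶ S)
      (j : Over.mk y' ⟶ Over.mk y) (g : Over.mk y' ⟶ Z),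
      (lift j g).left (IsLocalRing.closedPoint L : Spec (CommRingCat.of L)) = h := by
  let L := AlgebraicClosure ((Over.mk y ⊗ Z).left.residueField h)
  let i : Spec (CommRingCat.of L) ⟶ (Over.mk y ⊗ Z).left :=
    Spec.map (CommRingCat.ofHom (algebraMap ((Over.mk y ⊗ Z).left.residueField h) L)) ≫
      (Over.mk y ⊗ Z).left.fromSpecResidueField h
  let hh : Over.mk (i ≫ (Over.mk y ⊗ Z).hom) ⟶ Over.mk y ⊗ Z := Over.homMk i rfl
  refine ⟨L, inferInstance, inferInstance, _, hh ≫ fst _ _, hh ≫ snd _ _, ?_⟩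
  rw [show lift (hh ≫ fst _ _) (hh ≫ snd _ _) = hh by apply CartesianMonoidalCategory.hom_ext <;> simp]
  show (Spec.map (CommRingCat.ofHom (algebraMap ((Over.mk y ⊗ Z).left.residueField h) L)) ≫
      (Over.mk y ⊗ Z).left.fromSpecResidueField h) _ = h
  rw [Scheme.Hom.comp_apply]
  exact Scheme.fromSpecResidueField_apply h _

/-- The maximal generalization of a rational point of a homogeneous space is unique. -/
theorem eq_of_isMaxPt_rational (a : AlgGrp.Action G X) (hΦ : Surjective (lift a.act (snd G X)).left)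
    (p : Over.mk y ⟶ X) {Q Q' : (Over.mk y ⊗ X).left} (hQ : FlatH4.IsMaxPt Q) (hQ' : FlatH4.IsMaxPt Q')
    (h : Q ⤳ (lift (𝟙 (Over.mk y)) p).left (IsLocalRing.closedPoint K : Spec (CommRingCat.of K)))
    (h' : Q' ⤳ (lift (𝟙 (Over.mk y)) p).left (IsLocalRing.closedPoint K : Spec (CommRingCat.of K))) : Q = Q' := by
  let T : Over S := Over.mk y
  obtain ⟨P₀, hP₀, -⟩ := FlatH4.exists_isMaxPt_specializes ((lift (𝟙 T) p).left (IsLocalRing.closedPoint K : Spec (CommRingCat.of K)))
  obtain ⟨h₀, hh₀⟩ := exists_orbit_pt a hΦ p P₀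
  obtain ⟨L, _, _, y', j, g, hg⟩ := exists_ext G h₀
  let T' : Over S := Over.mk y'
  let pt : T'.left := (IsLocalRing.closedPoint L : Spec (CommRingCat.of L))
  let r : T' ⊗ X ⟶ T ⊗ X := j ▷ X
  haveI : Flat r.left := flat_whiskerRight j X
  let a' : T' ⟶ T' ⊗ X := lift (𝟙 T') (j ≫ p)
  let c : T' ⟶ T' ⊗ X := lift (𝟙 T') (lift g (j ≫ p) ≫ a.act)
  have hcr : c ≫ r = lift j g ≫ orb a p := lift_orb a j g p
  have har : a' ≫ r = j ≫ lift (𝟙 T) p := lift_whiskerRight_comp j p
  obtain ⟨Qf, -, hQf, hQfm⟩ := exists_fib_generic j X P₀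
  haveI : Subsingleton T.left := inferInstanceAs (Subsingleton (PrimeSpectrum K))
  have key : ∀ R : (T' ⊗ X).left, FlatH4.IsMaxPt R → R ⤳ a'.left pt → R = (trans a g⁻¹).left Qf := by
    intro R hR hRa
    have hR' : FlatH4.IsMaxPt ((trans a g).left R) := isMaxPt_map_iso _ _ (trans_inv a g) (inv_trans a g) hR
    have hR'c : (trans a g).left R ⤳ c.left pt := by
      have := hRa.map (trans a g).left.continuous
      rwa [← hap, lift_trans] at this
    have h1 := hR'c.map r.left.continuous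
    rw [← hap c r, hcr, hap, hg, hh₀] at h1
    have h2 := hR' _ (hQf _ (hP₀ _ h1))
    rw [h2, ← hap (trans a g), trans_inv]
    rfl
  have hlift : ∀ Q : (T ⊗ X).left, FlatH4.IsMaxPt Q → Q ⤳ (lift (𝟙 T) p).left (IsLocalRing.closedPoint K : Spec (CommRingCat.of K)) →
      ∃ R, FlatH4.IsMaxPt R ∧ R ⤳ a'.left pt ∧ r.left R = Q := by
    intro Q hQ hQa
    have e : r.left (a'.left pt) = (lift (𝟙 T) p).left (IsLocalRing.closedPoint K : Spec (CommRingCat.of K)) := by
      rw [← hap, har, hap]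
      congr 1
      exact Subsingleton.elim (α := T.left) _ _
    obtain ⟨R, hRa, hRQ⟩ := Flat.generalizingMap r.left (e.symm ▸ hQa)
    obtain ⟨R', hR', hR'R⟩ := FlatH4.exists_isMaxPt_specializes R
    exact ⟨R', hR', hR'R.trans hRa, hQ _ (hRQ ▸ hR'R.map r.left.continuous)⟩
  obtain ⟨R, hR, hRa, rfl⟩ := hlift Q hQ h
  obtain ⟨R', hR', hR'a, rfl⟩ := hlift Q' hQ' h'
  rw [key R hR hRa, key R' hR' hR'a]

/-- The generic point of the neutral component maps to a maximal point under every orbit map. -/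
theorem isMaxPt_orbit (a : AlgGrp.Action G X) (hΦ : Surjective (lift a.act (snd G X)).left)
    (p : Over.mk y ⟶ X) {η₀ : (Over.mk y ⊗ G).left} (hη₀ : FlatH4.IsMaxPt η₀)
    (he : η₀ ⤳ (lift (𝟙 (Over.mk y)) (1 : Over.mk y ⟶ G)).left (IsLocalRing.closedPoint K : Spec (CommRingCat.of K))) :
    FlatH4.IsMaxPt ((orb a p).left η₀) := by
  let T : Over S := Over.mk y
  obtain ⟨P, hP, -⟩ := FlatH4.exists_isMaxPt_specializes ((orb a p).left η₀)
  obtain ⟨h, hh⟩ := exists_orbit_pt a hΦ p P
  obtain ⟨ζ, hζ, hζh⟩ := FlatH4.exists_isMaxPt_specializes h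
  have hζP : (orb a p).left ζ = P := hP _ (hh ▸ hζh.map (orb a p).left.continuous)
  obtain ⟨L, _, _, y', j, g, hg⟩ := exists_ext G ζ
  let T' : Over S := Over.mk y'
  let pt : T'.left := (IsLocalRing.closedPoint L : Spec (CommRingCat.of L))
  let rG : T' ⊗ G ⟶ T ⊗ G := j ▷ G
  let rX : T' ⊗ X ⟶ T ⊗ X := j ▷ X
  let o' := orb a (j ≫ p)
  haveI : Flat rG.left := flat_whiskerRight j G
  haveI : Flat rX.left := flat_whiskerRight j X
  obtain ⟨ζ', hζ'ζ, hζ'gen, hζ'm⟩ := exists_fib_generic j G ζ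
  obtain ⟨Q, hQP, -, hQm⟩ := exists_fib_generic j X P
  have w : o' ≫ rX = rG ≫ orb a p := orb_whiskerRight a j p
  have sq : IsPullback o'.left rG.left rX.left (orb a p).left := by
    have hG : IsPullback (o'.left ≫ (fst T' X).left) rG.left j.left ((orb a p).left ≫ (fst T X).left) := by
      rw [← Over.comp_left, ← Over.comp_left, show o' ≫ fst T' X = fst T' G from lift_fst _ _,
        show orb a p ≫ fst T X = fst T G from lift_fst _ _]
      exact (AbRigid.isPullback_whiskerRight j G).map (Over.forget S)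
    exact IsPullback.of_right hG (by rw [← Over.comp_left, ← Over.comp_left, w])
      ((AbRigid.isPullback_whiskerRight j X).map (Over.forget S))
  obtain ⟨q, hqQ, hqζ⟩ := Scheme.exists_preimage_of_isPullback sq Q ζ (hQP.trans hζP.symm)
  have hoζ' : o'.left ζ' = Q := hQm hP _ (hqQ ▸ (hζ'gen q hqζ).map o'.left.continuous)
  -- translate to the unit
  let L' : (T' ⟶ G) → (T' ⊗ G ⟶ T' ⊗ G) := fun g => trans (OrbitTop19.mulAction G) g
  let η₁ := (L' g⁻¹).left ζ'
  have hη₁m : FlatH4.IsMaxPt η₁ :=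
    isMaxPt_map_iso _ _ (inv_trans (OrbitTop19.mulAction G) g) (trans_inv (OrbitTop19.mulAction G) g) (hζ'm hζ)
  have hη₁e : η₁ ⤳ (lift (𝟙 T') (1 : T' ⟶ G)).left pt := by
    have h1 : ζ' ⤳ (lift (𝟙 T') g).left pt := hζ'gen _ (by
      rw [← hap, show lift (𝟙 T') g ≫ (j ▷ G) = lift j g by
        apply CartesianMonoidalCategory.hom_ext <;> simp]
      exact hg)
    have h2 := h1.map (L' g⁻¹).left.continuous
    rwa [← hap, lift_trans, show lift g⁻¹ g ≫ (OrbitTop19.mulAction G).act = 1 by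
      show lift g⁻¹ g ≫ μ[G] = 1
      rw [← Hom.mul_def, inv_mul_cancel]] at h2
  have hτ : L' g⁻¹ ≫ o' = o' ≫ trans a g⁻¹ := trans_orb a g⁻¹ (j ≫ p)
  have hmax₁ : FlatH4.IsMaxPt (o'.left η₁) := by
    show FlatH4.IsMaxPt (o'.left ((L' g⁻¹).left ζ'))
    rw [← hap, hτ, hap, hoζ']
    exact isMaxPt_map_iso _ _ (inv_trans a g) (trans_inv a g) (hQm hP)
  haveI : Subsingleton T.left := inferInstanceAs (Subsingleton (PrimeSpectrum K))
  have hrη₁ : rG.left η₁ = η₀ := by
    refine eq_of_isMaxPt_rational (OrbitTop19.mulAction G) (surjective_mul G) (1 : T ⟶ G) (hη₁m.map_of_flat rG.left) hη₀ ?_ he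
    have h3 := hη₁e.map rG.left.continuous
    have e : rG.left ((lift (𝟙 T') (1 : T' ⟶ G)).left pt) =
        (lift (𝟙 T) (1 : T ⟶ G)).left (IsLocalRing.closedPoint K : Spec (CommRingCat.of K)) := by
      rw [← hap, show lift (𝟙 T') (1 : T' ⟶ G) ≫ rG = j ≫ lift (𝟙 T) (1 : T ⟶ G) from one_whiskerRight j, hap]
      congr 1
      exact Subsingleton.elim (α := T.left) _ _
    rw [e] at h3
    exact h3
  have := hmax₁.map_of_flat rX.left
  rwa [← hap o' rX, w, hap, hrη₁] at this

end point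

end Groth.Agent.GrpHomog20
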